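import Mathlib.Algebra.CharP.Defs
import Mathlib.GroupTheory.PGroup
import Mathlib.GroupTheory.GroupAction.Quotient
import Mathlib.GroupTheory.Index
import Mathlib.LinearAlgebra.Matrix.NonsingularInverse
import Mathlib.LinearAlgebra.Matrix.Trace
import Mathlib.Tactic

/-!
# Permutation matrices and fixed points

* `sum_eq_sum_fixed`: in characteristic `p`, the sum of a function invariant under a `p`-group is
  the sum over the fixed points.
* `card_fixed_eq_of_inverse`: two maps intertwined by an invertible matrix have the same number of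
  fixed points.
* `exists_inverse_of_reduction`: a square matrix over a domain with invertible reduction to a field
  is invertible in the fraction field.
-/

set_option autoImplicit false

namespace Cfsg.Agent.Lib.CharZeros.PermMatrix

open Matrix

/-- In characteristic `p`, the sum of a `P`-invariant function is the sum over fixed points. -/
theorem sum_eq_sum_fixed {P Y k : Type*} [Group P] [Finite P] [Fintype Y] [MulAction P Y]
    [CommRing k] {p : ℕ} [Fact p.Prime] (hpk : (p : k) = 0) (hP : IsPGroup p P) (f : Y → k)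
    (hf : ∀ (u : P) (y : Y), f (u • y) = f y) [DecidablePred fun y : Y => y ∈ MulAction.fixedPoints P Y] :
    ∑ y, f y = ∑ y ∈ Finset.univ.filter (fun y : Y => y ∈ MulAction.fixedPoints P Y), f y := by
  classical
  rw [← Finset.sum_filter_add_sum_filter_not Finset.univ (fun y : Y => y ∈ MulAction.fixedPoints P Y)]
  suffices h : ∑ y ∈ Finset.univ.filter (fun y : Y => ¬ y ∈ MulAction.fixedPoints P Y), f y = 0 by
    rw [h, add_zero]
  set S := Finset.univ.filter (fun y : Y => ¬ y ∈ MulAction.fixedPoints P Y) with hS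
  let q : Y → MulAction.orbitRel.Quotient P Y := fun y => Quotient.mk _ y
  let _ : Fintype (MulAction.orbitRel.Quotient P Y) := Fintype.ofFinite _
  rw [← Finset.sum_fiberwise S q f]
  refine Finset.sum_eq_zero fun c _ => ?_
  by_cases hne : (S.filter fun y => q y = c).Nonempty
  · obtain ⟨y₀, hy₀⟩ := hne
    have hy₀' := Finset.mem_filter.mp hy₀
    have hfib : S.filter (fun y => q y = c) = Finset.univ.filter (fun y => y ∈ MulAction.orbit P y₀) := by
      ext y
      simp only [Finset.mem_filter, Finset.mem_univ, true_and, hS]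
      constructor
      · rintro ⟨-, hy⟩
        have h1 : q y = q y₀ := hy.trans hy₀'.2.symm
        exact Quotient.exact h1
      · intro hy
        have h1 : q y = q y₀ := Quotient.sound hy
        refine ⟨?_, h1.trans hy₀'.2⟩
        intro hfix
        obtain ⟨u, rfl⟩ := hy
        apply (Finset.mem_filter.mp hy₀'.1).2
        intro v
        have h2 : (u * v * u⁻¹) • (u • y₀) = u • y₀ := hfix (u * v * u⁻¹)
        have h3 : u • (v • y₀) = u • y₀ := by
          rw [← h2]
          simp [mul_smul]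
        exact (MulAction.injective u) h3
    rw [hfib, Finset.sum_congr rfl (g := fun _ => f y₀)]
    · rw [Finset.sum_const]
      have hcard : (Finset.univ.filter (fun y => y ∈ MulAction.orbit P y₀)).card =
          Nat.card (MulAction.orbit P y₀) := by
        rw [Nat.card_eq_fintype_card, Fintype.card_subtype]
      rw [hcard]
      obtain ⟨n, hn⟩ := IsPGroup.iff_card.mp hP
      have hdvd : Nat.card (MulAction.orbit P y₀) ∣ p ^ n := by
        rw [← hn]
        have h1 := Subgroup.card_mul_index (MulAction.stabilizer P y₀)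
        rw [MulAction.index_stabilizer] at h1
        exact ⟨_, by rw [← h1, mul_comm]; rfl⟩
      obtain ⟨j, -, hj⟩ := (Nat.dvd_prime_pow (Fact.out : p.Prime)).mp hdvd
      have hj0 : j ≠ 0 := by
        rintro rfl
        rw [pow_zero] at hj
        apply (Finset.mem_filter.mp hy₀'.1).2
        intro v
        have hsub : Subsingleton (MulAction.orbit P y₀) := (Nat.card_eq_one_iff_unique.mp hj).1
        have h2 := Subsingleton.elim (⟨v • y₀, MulAction.mem_orbit y₀ v⟩ : MulAction.orbit P y₀)
          ⟨y₀, MulAction.mem_orbit_self y₀⟩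
        exact congrArg Subtype.val h2
      rw [hj, nsmul_eq_mul]
      push_cast
      rw [hpk, zero_pow hj0, zero_mul]
    · intro y hy
      obtain ⟨u, rfl⟩ := (Finset.mem_filter.mp hy).2
      exact hf u y₀
  · rw [Finset.not_nonempty_iff_eq_empty.mp hne, Finset.sum_empty]

/-- Intertwined maps have the same number of fixed points. -/
theorem card_fixed_eq_of_inverse {X Y : Type*} [Fintype X] [Fintype Y] [DecidableEq X]
    [DecidableEq Y] (M : Matrix X Y ℂ) (N : Matrix Y X ℂ) (h1 : M * N = 1) (h2 : N * M = 1)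
    (ιX : X → X) (ιY : Y → Y) (h : ∀ x y, M (ιX x) y = M x (ιY y)) :
    (Finset.univ.filter fun x => ιX x = x).card = (Finset.univ.filter fun y => ιY y = y).card := by
  classical
  let PX : Matrix X X ℂ := Matrix.of fun x x' => if ιX x = x' then 1 else 0
  let PY : Matrix Y Y ℂ := Matrix.of fun y' y => if y' = ιY y then 1 else 0
  have hX : PX * M = M * PY := by
    ext x y
    simp only [Matrix.mul_apply, PX, PY, Matrix.of_apply]
    simp only [ite_mul, one_mul, zero_mul, mul_ite, mul_one, mul_zero, Finset.sum_ite_eq,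
      Finset.sum_ite_eq', Finset.mem_univ, if_true]
    exact h x y
  have htrX : Matrix.trace PX = ((Finset.univ.filter fun x => ιX x = x).card : ℂ) := by
    simp [Matrix.trace, PX, Finset.sum_boole]
  have htrY : Matrix.trace PY = ((Finset.univ.filter fun y => ιY y = y).card : ℂ) := by
    simp only [Matrix.trace, Matrix.diag_apply, PY, Matrix.of_apply]
    rw [Finset.sum_boole]
    congr 2
    ext y
    simp [eq_comm]
  have htr : Matrix.trace PX = Matrix.trace PY := by
    have h3 : PX = M * PY * N := by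
      rw [← hX, Matrix.mul_assoc, h1, Matrix.mul_one]
    rw [h3, Matrix.trace_mul_comm, ← Matrix.mul_assoc, h2, Matrix.one_mul]
  rw [htrX, htrY] at htr
  exact_mod_cast htr

/-- Lifting an inverse from a reduction to a field. -/
theorem exists_inverse_of_reduction {X Y R k L : Type*} [Fintype X] [Fintype Y] [DecidableEq X]
    [DecidableEq Y] [CommRing R] [Field k] [Field L] (φ : R →+* k) (ι : R →+* L)
    (A : Matrix X Y R) (A' : Matrix Y X R) (a : R) (ha : φ a ≠ 0)
    (h1 : (A.map φ) * (A'.map φ) = φ a • (1 : Matrix X X k))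
    (h2 : (A'.map φ) * (A.map φ) = φ a • (1 : Matrix Y Y k)) (hι : Function.Injective ι) :
    Fintype.card X = Fintype.card Y ∧ ∃ N : Matrix Y X L, A.map ι * N = 1 ∧ N * A.map ι = 1 := by
  classical
  set B : Matrix Y X k := (φ a)⁻¹ • (A'.map φ) with hB
  have h3 : (A.map φ) * B = 1 := by
    rw [hB, Matrix.mul_smul, h1, smul_smul, inv_mul_cancel₀ ha, one_smul]
  have h4 : B * (A.map φ) = 1 := by
    rw [hB, Matrix.smul_mul, h2, smul_smul, inv_mul_cancel₀ ha, one_smul]
  have hcard : Fintype.card X = Fintype.card Y := Matrix.square_of_invertible _ _ h3 h4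
  refine ⟨hcard, ?_⟩
  let e : X ≃ Y := Fintype.equivOfCardEq hcard
  let M' : Matrix X X R := A.submatrix id e
  have hdet : φ M'.det ≠ 0 := by
    have h5 : (M'.map φ) * (B.submatrix e id) = 1 := by
      have h6 : (M'.map φ) = (A.map φ).submatrix id e := rfl
      rw [h6, Matrix.submatrix_mul_equiv, h3, Matrix.submatrix_id_id]
    have h7 := congrArg Matrix.det h5
    rw [Matrix.det_mul, Matrix.det_one] at h7
    have h8 : φ M'.det = (M'.map φ).det := by
      rw [RingHom.map_det]
      rfl
    rw [h8]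
    exact left_ne_zero_of_mul_eq_one h7
  have hdet0 : M'.det ≠ 0 := fun h => hdet (by rw [h, map_zero])
  have hdet1 : (M'.map ι).det ≠ 0 := by
    have h8 : ι M'.det = (M'.map ι).det := by
      rw [RingHom.map_det]
      rfl
    rw [← h8]
    exact fun h => hdet0 (hι (by rw [h, map_zero]))
  set M'' := M'.map ι with hM''
  have hunit : IsUnit M''.det := isUnit_iff_ne_zero.mpr hdet1
  have hmapeq : A.map ι = M''.submatrix id e.symm := by
    ext x y
    simp [hM'', M']
  refine ⟨M''⁻¹.submatrix e.symm id, ?_, ?_⟩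
  · rw [hmapeq, Matrix.submatrix_mul_equiv, Matrix.mul_nonsing_inv _ hunit, Matrix.submatrix_id_id]
  · rw [hmapeq, ← Matrix.submatrix_mul _ _ _ _ _ Function.bijective_id,
      Matrix.nonsing_inv_mul _ hunit, Matrix.submatrix_one_equiv]

end Cfsg.Agent.Lib.CharZeros.PermMatrix

namespace Cfsg.Agent.Lib.CharZeros.PermMatrix

open Matrix

/-- Abstract count of fixed points under a `p`-group and an additional map. -/
theorem card_fixed_fixed_eq {P X Y R k : Type*} [Group P] [Finite P] [Fintype X] [Fintype Y]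
    [DecidableEq X] [DecidableEq Y]
    [MulAction P X] [MulAction P Y] [CommRing R] [Field k] {p : ℕ} [Fact p.Prime]
    (hP : IsPGroup p P) (hpk : (p : k) = 0) (φ : R →+* k) (ι : R →+* ℂ) (hι : Function.Injective ι)
    (A : X → Y → R) (A' : Y → X → R) (a : R) (ha : φ a ≠ 0)
    (hA : ∀ (u : P) (x : X) (y : Y), A (u • x) (u • y) = A x y)
    (hA' : ∀ (u : P) (y : Y) (x : X), A' (u • y) (u • x) = A' y x)
    (hrow : ∀ x x', ∑ y, A x y * A' y x' = if x = x' then a else 0)
    (hcol : ∀ y y', ∑ x, A' y x * A x y' = if y = y' then a else 0)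
    (ιX : X → X) (ιY : Y → Y) (hιX : ∀ x, (∀ u : P, u • x = x) → ∀ u : P, u • ιX x = ιX x)
    (hιY : ∀ y, (∀ u : P, u • y = y) → ∀ u : P, u • ιY y = ιY y)
    (hAι : ∀ x y, A (ιX x) y = A x (ιY y)) :
    Nat.card {x : X // (∀ u : P, u • x = x) ∧ ιX x = x} =
      Nat.card {y : Y // (∀ u : P, u • y = y) ∧ ιY y = y} := by
  classical
  let X₀ := {x : X // ∀ u : P, u • x = x}
  let Y₀ := {y : Y // ∀ u : P, u • y = y}
  let A₀ : Matrix X₀ Y₀ R := Matrix.of fun x y => A x.1 y.1
  let A₀' : Matrix Y₀ X₀ R := Matrix.of fun y x => A' y.1 x.1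
  have hfixY : ∀ y : Y, y ∈ MulAction.fixedPoints P Y ↔ ∀ u : P, u • y = y := fun y => Iff.rfl
  have hfixX : ∀ x : X, x ∈ MulAction.fixedPoints P X ↔ ∀ u : P, u • x = x := fun x => Iff.rfl
  have h1 : (A₀.map φ) * (A₀'.map φ) = φ a • (1 : Matrix X₀ X₀ k) := by
    ext x x'
    rw [Matrix.mul_apply]
    simp only [Matrix.map_apply, A₀, A₀', Matrix.of_apply, Matrix.smul_apply, Matrix.one_apply,
      smul_eq_mul]
    have h2 := sum_eq_sum_fixed (P := P) hpk hP (fun y : Y => φ (A x.1 y) * φ (A' y x'.1)) (by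
      intro u y
      have h3 : A x.1 (u • y) = A x.1 y := by
        conv_lhs => rw [← x.2 u]
        exact hA u x.1 y
      have h4 : A' (u • y) x'.1 = A' y x'.1 := by
        conv_lhs => rw [← x'.2 u]
        exact hA' u y x'.1
      simp only [h3, h4])
    have h5 : ∑ y : Y₀, φ (A x.1 y.1) * φ (A' y.1 x'.1) =
        ∑ y ∈ Finset.univ.filter (fun y : Y => y ∈ MulAction.fixedPoints P Y),
          φ (A x.1 y) * φ (A' y x'.1) :=
      (Finset.sum_subtype (p := fun y : Y => ∀ u : P, u • y = y)
        (Finset.univ.filter (fun y : Y => y ∈ MulAction.fixedPoints P Y)) (fun y => by simp [hfixY])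
        (fun y => φ (A x.1 y) * φ (A' y x'.1))).symm
    rw [h5, ← h2]
    have h6 : ∑ y : Y, φ (A x.1 y) * φ (A' y x'.1) = φ (∑ y, A x.1 y * A' y x'.1) := by
      rw [map_sum]
      exact Finset.sum_congr rfl fun y _ => (map_mul _ _ _).symm
    rw [h6, hrow]
    by_cases hxx : x = x'
    · subst hxx
      simp
    · have hne : x.1 ≠ x'.1 := fun h => hxx (Subtype.ext h)
      simp [hxx, hne]
  have h2 : (A₀'.map φ) * (A₀.map φ) = φ a • (1 : Matrix Y₀ Y₀ k) := by
    ext y y'
    rw [Matrix.mul_apply]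
    simp only [Matrix.map_apply, A₀, A₀', Matrix.of_apply, Matrix.smul_apply, Matrix.one_apply,
      smul_eq_mul]
    have h2 := sum_eq_sum_fixed (P := P) hpk hP (fun x : X => φ (A' y.1 x) * φ (A x y'.1)) (by
      intro u x
      have h3 : A (u • x) y'.1 = A x y'.1 := by
        conv_lhs => rw [← y'.2 u]
        exact hA u x y'.1
      have h4 : A' y.1 (u • x) = A' y.1 x := by
        conv_lhs => rw [← y.2 u]
        exact hA' u y.1 x
      simp only [h3, h4])
    have h5 : ∑ x : X₀, φ (A' y.1 x.1) * φ (A x.1 y'.1) =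
        ∑ x ∈ Finset.univ.filter (fun x : X => x ∈ MulAction.fixedPoints P X),
          φ (A' y.1 x) * φ (A x y'.1) :=
      (Finset.sum_subtype (p := fun x : X => ∀ u : P, u • x = x)
        (Finset.univ.filter (fun x : X => x ∈ MulAction.fixedPoints P X)) (fun x => by simp [hfixX])
        (fun x => φ (A' y.1 x) * φ (A x y'.1))).symm
    rw [h5, ← h2]
    have h6 : ∑ x : X, φ (A' y.1 x) * φ (A x y'.1) = φ (∑ x, A' y.1 x * A x y'.1) := by
      rw [map_sum]
      exact Finset.sum_congr rfl fun x _ => (map_mul _ _ _).symm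
    rw [h6, hcol]
    by_cases hyy : y = y'
    · subst hyy
      simp
    · have hne : y.1 ≠ y'.1 := fun h => hyy (Subtype.ext h)
      simp [hyy, hne]
  obtain ⟨-, N, hN1, hN2⟩ := exists_inverse_of_reduction φ ι A₀ A₀' a ha h1 h2 hι
  let ιX₀ : X₀ → X₀ := fun x => ⟨ιX x.1, hιX x.1 x.2⟩
  let ιY₀ : Y₀ → Y₀ := fun y => ⟨ιY y.1, hιY y.1 y.2⟩
  have hcount := card_fixed_eq_of_inverse (A₀.map ι) N hN1 hN2 ιX₀ ιY₀ (by
    intro x y
    simp only [Matrix.map_apply, A₀, Matrix.of_apply, ιX₀, ιY₀]
    rw [hAι])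
  have hL : Nat.card {x : X // (∀ u : P, u • x = x) ∧ ιX x = x} =
      (Finset.univ.filter fun x : X₀ => ιX₀ x = x).card := by
    rw [← Fintype.card_subtype, ← Nat.card_eq_fintype_card]
    apply Nat.card_congr
    refine ⟨fun x => ⟨⟨x.1, x.2.1⟩, Subtype.ext x.2.2⟩, fun x => ⟨x.1.1, x.1.2, ?_⟩, ?_, ?_⟩
    · exact congrArg Subtype.val x.2
    · intro x; rfl
    · intro x; rfl
  have hR : Nat.card {y : Y // (∀ u : P, u • y = y) ∧ ιY y = y} =
      (Finset.univ.filter fun y : Y₀ => ιY₀ y = y).card := by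
    rw [← Fintype.card_subtype, ← Nat.card_eq_fintype_card]
    apply Nat.card_congr
    refine ⟨fun x => ⟨⟨x.1, x.2.1⟩, Subtype.ext x.2.2⟩, fun x => ⟨x.1.1, x.1.2, ?_⟩, ?_, ?_⟩
    · exact congrArg Subtype.val x.2
    · intro x; rfl
    · intro x; rfl
  rw [hL, hR]
  exact hcount

end Cfsg.Agent.Lib.CharZeros.PermMatrix
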