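import Cfsg.Agent.Lib.Char.BrauerPerm
import Cfsg.Agent.Lib.Char.FrobSchur
import Mathlib.Tactic

/-!
# Twisted Brauer permutation lemma

For a map `α : G → G` such that precomposition with `α` preserves irreducible characters and such
that the condition "`α g` is conjugate to `g`" depends only on the class of `g`, the number of
irreducible characters fixed by `α` is the number of classes with that condition.
-/

set_option autoImplicit false

namespace Cfsg.Agent.Lib.CharZeros.Twisted

open Cfsg Module
open Cfsg.Agent.Lib.Char.Basic Cfsg.Agent.Lib.Char.Ortho Cfsg.Agent.Lib.Char.Complete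
open Cfsg.Agent.Lib.Char.BrauerPerm
open scoped ComplexConjugate

universe u

variable {G : Type u} [Group G] [Finite G]

/-- Twisted Brauer permutation lemma. -/
theorem card_fixed_irr_eq_card_classes (α : G → G)
    (hα : ∀ χ : G → ℂ, IsIrrCharacter G χ → IsIrrCharacter G (χ ∘ α))
    (hcl : ∀ g g' : G, IsConj g g' → (IsConj (α g) g ↔ IsConj (α g') g')) :
    Nat.card {χ : IrrCharacter G // (χ : G → ℂ) ∘ α = (χ : G → ℂ)} =
      Nat.card {C : ConjClasses G // ∀ g : G, ConjClasses.mk g = C → IsConj (α g) g} := by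
  classical
  let _ := Fintype.ofFinite G
  have := finite_irrCharacter (G := G)
  let _ := Fintype.ofFinite (IrrCharacter G)
  let _ : Fintype (ConjClasses G) := Fintype.ofFinite _
  have h1 : ∀ χ : IrrCharacter G, classInner ((χ : G → ℂ) ∘ α) (χ : G → ℂ) =
      if (χ : G → ℂ) ∘ α = (χ : G → ℂ) then 1 else 0 := fun χ =>
    classInner_irr (hα _ χ.2) χ.2
  have h2 : ((Nat.card {χ : IrrCharacter G // (χ : G → ℂ) ∘ α = (χ : G → ℂ)} : ℕ) : ℂ) =
      ∑ χ : IrrCharacter G, classInner ((χ : G → ℂ) ∘ α) (χ : G → ℂ) := by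
    simp only [h1]
    rw [Finset.sum_boole, Nat.card_eq_fintype_card, Fintype.card_subtype]
  have h3 : ∑ χ : IrrCharacter G, classInner ((χ : G → ℂ) ∘ α) (χ : G → ℂ) =
      (Nat.card G : ℂ)⁻¹ * ∑ g : G, ∑ χ : IrrCharacter G,
        (χ : G → ℂ) (α g) * conj ((χ : G → ℂ) g) := by
    simp only [classInner, Function.comp]
    rw [← Finset.mul_sum, Finset.sum_comm]
  have hiff : ∀ g : G, IsConj (α g) g ↔ ∀ x : G, ConjClasses.mk x = ConjClasses.mk g →
      IsConj (α x) x := by
    intro g
    constructor
    · intro h x hx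
      exact (hcl x g (ConjClasses.mk_eq_mk_iff_isConj.mp hx)).mpr h
    · intro h
      exact h g rfl
  have h4 : ∀ g : G, ∑ χ : IrrCharacter G, (χ : G → ℂ) (α g) * conj ((χ : G → ℂ) g) =
      (if (∀ x : G, ConjClasses.mk x = ConjClasses.mk g → IsConj (α x) x) then 1 else 0) *
        (Nat.card (Subgroup.centralizer ({g} : Set G)) : ℂ) := by
    intro g
    rw [sum_irr_mul_conj]
    by_cases hc : IsConj (α g) g
    · rw [if_pos hc, if_pos ((hiff g).mp hc), one_mul]
    · rw [if_neg hc, if_neg (fun h => hc ((hiff g).mpr h)), zero_mul]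
  simp only [h4] at h3
  rw [h3] at h2
  rw [sum_class_mul_card_centralizer
    (fun K => if (∀ x : G, ConjClasses.mk x = K → IsConj (α x) x) then (1 : ℂ) else 0)] at h2
  rw [← mul_assoc, inv_mul_cancel₀ card_ne_zero_complex, one_mul, Finset.sum_boole] at h2
  have h5 : Nat.card {C : ConjClasses G // ∀ g : G, ConjClasses.mk g = C → IsConj (α g) g} =
      (Finset.univ.filter (fun K : ConjClasses G =>
        ∀ g : G, ConjClasses.mk g = K → IsConj (α g) g)).card := by
    rw [Nat.card_eq_fintype_card, Fintype.card_subtype]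
  rw [h5]
  exact_mod_cast h2

/-- Abstract lemma on an involution `ι` commuting with an odd-order map `γ`. -/
theorem fixed_of_odd {S : Type*} (γ ι : S → S) (hcomm : ∀ s, γ (ι s) = ι (γ s))
    (hι : ∀ s, ι (ι s) = s) {m : ℕ} (hm : Odd m) (hγ : ∀ s, γ^[m] s = s) {s : S}
    (hs : γ (ι s) = s) : γ s = s ∧ ι s = s := by
  have h1 : γ s = ι s := by
    have := congrArg ι hs
    rw [← hcomm, hι] at this
    exact this
  have h2 : γ (γ s) = s := by rw [h1, hs]
  have h3 : ∀ j, γ^[2 * j] s = s := by
    intro j
    induction j with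
    | zero => rfl
    | succ j ih =>
      rw [show 2 * (j + 1) = 2 * j + 2 by ring, Function.iterate_add_apply, Function.iterate_succ_apply,
        Function.iterate_one, h2, ih]
  obtain ⟨j, rfl⟩ := hm
  have h4 : γ s = s := by
    have h5 := hγ s
    rw [Function.iterate_add_apply, Function.iterate_one, ← Function.iterate_succ_apply,
      Function.iterate_succ_apply', h3] at h5
    exact h5
  exact ⟨h4, by rw [← h1, h4]⟩

end Cfsg.Agent.Lib.CharZeros.Twisted
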